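import Cfsg.Agent.Lib.GLFlags.Basic

/-!
Lib/StVal12/Flags: cosets of standard parabolic subgroups as flags, and the fixed cosets of an element
as its invariant flags.
-/

set_option autoImplicit false
set_option linter.unusedSectionVars false

namespace Cfsg.Agent.Lib.StVal12

open Module
open scoped MatrixGroups Matrix
open Cfsg.Agent.Lib.GLFlags

variable {F : Type*} [Field F] {n : ℕ} (μ : Fin n → ℕ)

/-- The flags of type `μ`. -/
def IsFlag {V : Type*} [AddCommGroup V] [Module F V] (c : Fin (n + 1) → Submodule F V) : Prop :=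
  Monotone c ∧ ∀ k : Fin (n + 1), finrank F ↥(c k) = part μ k

/-- The members of the standard flag. -/
def stdSpace (k : ℕ) : Submodule F (Fin n → F) where
  carrier := {v | ∀ i : Fin n, part μ k ≤ i.val → v i = 0}
  add_mem' := fun {u v} hu hv i hi => by simp [hu i hi, hv i hi]
  zero_mem' := fun _ _ => rfl
  smul_mem' := fun c v hv i hi => by simp [hv i hi]

theorem mem_stdSpace {k : ℕ} {v : Fin n → F} :
    v ∈ stdSpace μ k ↔ ∀ i : Fin n, part μ k ≤ i.val → v i = 0 := Iff.rfl

theorem single_mem_stdSpace {k : ℕ} {i : Fin n} (hi : i.val < part μ k) :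
    (Pi.single i 1 : Fin n → F) ∈ stdSpace μ k := fun j hj => by
  rw [Pi.single_apply, if_neg]
  rintro rfl
  omega

variable (hμ : ∑ i, μ i = n)
include hμ

theorem finrank_stdSpace (k : ℕ) : finrank F ↥(stdSpace (F := F) μ k) = part μ k := by
  classical
  have hle : part μ k ≤ n := (part_le_sum μ k).trans_eq hμ
  let e : ↥(stdSpace (F := F) μ k) ≃ₗ[F] (Fin (part μ k) → F) :=
    { toFun := fun v i => v.1 ⟨i, i.2.trans_le hle⟩
      map_add' := fun _ _ => rfl
      map_smul' := fun _ _ => rfl
      invFun := fun w => ⟨fun i => if h : i.val < part μ k then w ⟨i, h⟩ else 0, fun i hi => dif_neg (by omega)⟩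
      left_inv := fun v => Subtype.ext (funext fun i => by
        show (if h : i.val < part μ k then v.1 ⟨i, _⟩ else 0) = v.1 i
        split_ifs with h
        · rfl
        · exact (v.2 i (by omega)).symm)
      right_inv := fun w => funext fun i => dif_pos i.2 }
  rw [e.finrank_eq, Module.finrank_fin_fun]

theorem stdSpace_isFlag : IsFlag μ (fun k : Fin (n + 1) => stdSpace (F := F) μ k) :=
  ⟨fun a b hab v hv i hi => hv i ((part_mono μ (show (a : ℕ) ≤ b from hab)).trans hi),
    fun k => finrank_stdSpace μ hμ k⟩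

/-- The action of `GL n` on families of subspaces. -/
noncomputable def act (g : GL (Fin n) F) (c : Fin (n + 1) → Submodule F (Fin n → F)) :
    Fin (n + 1) → Submodule F (Fin n → F) :=
  fun k => (c k).map (Matrix.toLin' (g : Matrix (Fin n) (Fin n) F))

omit hμ in
theorem act_mul (g h : GL (Fin n) F) (c : Fin (n + 1) → Submodule F (Fin n → F)) :
    act (g * h) c = act g (act h c) := by
  funext k
  simp only [act, Units.val_mul, Matrix.toLin'_mul, Submodule.map_comp]

omit hμ in
theorem act_one (c : Fin (n + 1) → Submodule F (Fin n → F)) : act 1 c = c := by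
  funext k
  simp only [act, Units.val_one, Matrix.toLin'_one, Submodule.map_id]

omit hμ in
theorem toLin'_injective_GL (g : GL (Fin n) F) :
    Function.Injective (Matrix.toLin' (g : Matrix (Fin n) (Fin n) F)) := fun u v h => by
  have := congrArg (fun w => ((g⁻¹ : GL (Fin n) F) : Matrix (Fin n) (Fin n) F) *ᵥ w) h
  simpa [Matrix.toLin'_apply, Matrix.mulVec_mulVec] using this

omit hμ in
theorem finrank_act (g : GL (Fin n) F) (c : Fin (n + 1) → Submodule F (Fin n → F)) (k : Fin (n + 1)) :
    finrank F ↥(act g c k) = finrank F ↥(c k) :=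
  (Submodule.equivMapOfInjective _ (toLin'_injective_GL g) (c k)).finrank_eq.symm

theorem isFlag_act (g : GL (Fin n) F) : IsFlag μ (act g fun k => stdSpace μ k) :=
  ⟨fun _ _ hab => Submodule.map_mono ((stdSpace_isFlag μ hμ).1 hab),
    fun k => by rw [finrank_act, finrank_stdSpace μ hμ]⟩

theorem act_std_eq_iff (g : GL (Fin n) F) :
    (act g fun k => stdSpace μ k) = (fun k : Fin (n + 1) => stdSpace μ k) ↔ g ∈ Cfsg.parabolicGL n F μ := by
  classical
  constructor
  · intro h i j hij
    have hj : Cfsg.compLabel μ j + 1 ≤ n := compLabel_lt μ hμ j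
    have hpj : j.val < part μ (Cfsg.compLabel μ j + 1) := (compLabel_lt_iff μ hj j).1 (Nat.lt_succ_self _)
    have hpi : part μ (Cfsg.compLabel μ j + 1) ≤ i.val := by
      by_contra hc
      have := (compLabel_lt_iff μ hj i).2 (by omega)
      omega
    have hm : Matrix.toLin' (g : Matrix (Fin n) (Fin n) F) (Pi.single j 1) ∈
        stdSpace μ (Cfsg.compLabel μ j + 1) := by
      have := congrFun h ⟨Cfsg.compLabel μ j + 1, by omega⟩
      exact this.le ⟨_, single_mem_stdSpace μ hpj, rfl⟩
    simpa using hm i hpi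
  · intro hg
    funext k
    refine Submodule.eq_of_le_of_finrank_eq ?_ (by rw [finrank_act])
    rintro _ ⟨v, hv, rfl⟩ i hi
    rw [Matrix.toLin'_apply, Matrix.mulVec, dotProduct]
    refine Finset.sum_eq_zero fun j _ => ?_
    by_cases hj : part μ k ≤ j.val
    · rw [hv j hj, mul_zero]
    · have h1 : Cfsg.compLabel μ j < (k : ℕ) := (compLabel_lt_iff μ (Nat.le_of_lt_succ k.2) j).2 (by omega)
      have h2 : (k : ℕ) ≤ Cfsg.compLabel μ i := by
        by_contra hc
        have := (compLabel_lt_iff μ (Nat.le_of_lt_succ k.2) i).1 (by omega)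
        omega
      rw [hg (lt_of_lt_of_le h1 h2), zero_mul]

/-- Every flag is a translate of the standard one. -/
theorem exists_act_eq {c : Fin (n + 1) → Submodule F (Fin n → F)} (hc : IsFlag μ c) :
    ∃ g : GL (Fin n) F, (act g fun k => stdSpace μ k) = c := by
  classical
  have key : ∀ m (hm : m ≤ n), ∃ v : Fin m → Fin n → F, LinearIndependent F v ∧
      ∀ (i : Fin m) (k : Fin (n + 1)), i.val < part μ k → v i ∈ c k := by
    intro m
    induction m with
    | zero => exact fun _ => ⟨fun i => i.elim0, linearIndependent_empty_type, fun i => i.elim0⟩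
    | succ m ih =>
      intro hm
      obtain ⟨v, hv, hvc⟩ := ih (by omega)
      let j : Fin n := ⟨m, hm⟩
      have hj : Cfsg.compLabel μ j + 1 ≤ n := compLabel_lt μ hμ j
      let k₀ : Fin (n + 1) := ⟨Cfsg.compLabel μ j + 1, by omega⟩
      have hp : m < part μ k₀ := (compLabel_lt_iff μ hj j).1 (Nat.lt_succ_self _)
      have hnot : ¬ c k₀ ≤ Submodule.span F (Set.range v) := fun hle => by
        have h1 := Submodule.finrank_mono hle
        rw [hc.2, finrank_span_eq_card hv, Fintype.card_fin] at h1
        omega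
      obtain ⟨x, hx, hxv⟩ := SetLike.not_le_iff_exists.1 hnot
      refine ⟨Fin.snoc v x, linearIndependent_finSnoc.2 ⟨hv, hxv⟩, fun i => ?_⟩
      refine Fin.lastCases ?_ (fun i => ?_) i
      · intro k hk
        rw [Fin.snoc_last]
        refine hc.1 ?_ hx
        show Cfsg.compLabel μ j + 1 ≤ (k : ℕ)
        exact (compLabel_lt_iff μ (Nat.le_of_lt_succ k.2) j).2 hk
      · intro k hk
        rw [Fin.snoc_castSucc]
        exact hvc i k hk
  obtain ⟨v, hv, hvc⟩ := key n le_rfl
  let M : Matrix (Fin n) (Fin n) F := Matrix.of fun i j => v j i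
  have hM : IsUnit M := Matrix.linearIndependent_cols_iff_isUnit.1 hv
  refine ⟨hM.unit, funext fun k => Submodule.eq_of_le_of_finrank_eq ?_
    (by rw [finrank_act, finrank_stdSpace μ hμ, hc.2])⟩
  rintro _ ⟨w, hw, rfl⟩
  have hMw : Matrix.toLin' M w = ∑ j, w j • v j := by
    funext i
    simp [Matrix.toLin'_apply, Matrix.mulVec, dotProduct, M, Finset.sum_apply, mul_comm]
  rw [IsUnit.unit_spec, hMw]
  refine Submodule.sum_mem _ fun j _ => ?_
  by_cases hj : j.val < part μ k
  · exact Submodule.smul_mem _ _ (hvc j k hj)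
  · rw [hw j (by omega), zero_smul]; exact Submodule.zero_mem _

/-- The flag of a coset. -/
noncomputable def cosetFlag : GL (Fin n) F ⧸ Cfsg.parabolicGL n F μ →
    {c : Fin (n + 1) → Submodule F (Fin n → F) // IsFlag μ c} :=
  fun x => Quotient.liftOn' x (fun a => ⟨act a fun k => stdSpace μ k, isFlag_act μ hμ a⟩) fun a b hab => by
    rw [QuotientGroup.leftRel_apply] at hab
    apply Subtype.ext
    show (act a fun k => stdSpace μ k) = act b fun k => stdSpace μ k
    conv_rhs => rw [show b = a * (a⁻¹ * b) by group, act_mul, (act_std_eq_iff μ hμ _).2 hab]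

theorem cosetFlag_bijective : Function.Bijective (cosetFlag (F := F) μ hμ) := by
  constructor
  · intro x y h
    induction x using QuotientGroup.induction_on with
    | H a =>
      induction y using QuotientGroup.induction_on with
      | H b =>
        have h' : (act a fun k => stdSpace μ k) = act b fun k => stdSpace μ k := congrArg Subtype.val h
        rw [QuotientGroup.eq, ← act_std_eq_iff μ hμ, act_mul, ← h', ← act_mul, inv_mul_cancel, act_one]
  · intro c
    obtain ⟨g, hg⟩ := exists_act_eq μ hμ c.2
    exact ⟨QuotientGroup.mk g, Subtype.ext hg⟩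

theorem cosetFlag_smul (g : GL (Fin n) F) (x : GL (Fin n) F ⧸ Cfsg.parabolicGL n F μ) :
    (cosetFlag μ hμ (g • x)).1 = act g (cosetFlag μ hμ x).1 := by
  induction x using QuotientGroup.induction_on with
  | H a => exact act_mul g a _

/-- The fixed cosets correspond to the invariant flags. -/
theorem fixedPointCharacter_eq (g : GL (Fin n) F) :
    Cfsg.fixedPointCharacter (Cfsg.parabolicGL n F μ) g =
      (Nat.card {c : Fin (n + 1) → Submodule F (Fin n → F) // IsFlag μ c ∧
        ∀ k, ∀ v ∈ c k, Matrix.toLin' (g : Matrix (Fin n) (Fin n) F) v ∈ c k} : ℂ) := by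
  unfold Cfsg.fixedPointCharacter
  congr 1
  refine Nat.card_congr (((Equiv.ofBijective _ (cosetFlag_bijective μ hμ)).subtypeEquiv fun x => ?_).trans
    (Equiv.subtypeSubtypeEquivSubtypeInter (IsFlag μ) fun c => ∀ k, ∀ v ∈ c k,
      Matrix.toLin' (g : Matrix (Fin n) (Fin n) F) v ∈ c k))
  rw [MulAction.mem_fixedBy]
  constructor
  · intro h k v hv
    have h' := congrArg (fun y => (cosetFlag μ hμ y).1 k) h
    rw [cosetFlag_smul] at h'
    exact h'.le ⟨v, hv, rfl⟩
  · intro h
    apply (cosetFlag_bijective μ hμ).1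
    apply Subtype.ext
    rw [cosetFlag_smul]
    refine funext fun k => Submodule.eq_of_le_of_finrank_eq ?_ (finrank_act g _ k)
    rintro _ ⟨v, hv, rfl⟩
    exact h k v hv

end Cfsg.Agent.Lib.StVal12
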