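import Cfsg.Agent.Lib.StVal12.Semisimple

/-!
Lib/StVal12/Moebius: the Möbius function of the lattice of invariant subspaces of a semisimple
endomorphism, computed by Weisner's recursion.
-/

set_option autoImplicit false
set_option linter.unusedSectionVars false

namespace Cfsg.Agent.Lib.StVal12

open Polynomial UniqueFactorizationMonoid Module

variable {F V : Type*} [Field F] [Fintype F] [DecidableEq F] [AddCommGroup V] [Module F V] [FiniteDimensional F V]
variable {T : V →ₗ[F] V}

noncomputable instance : Fintype (Submodule F V) :=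
  haveI : Finite V := Module.finite_of_finite F
  Fintype.ofFinite _

open Classical in
/-- The invariant subspaces below `U`. -/
noncomputable def invs (T : V →ₗ[F] V) (U : Submodule F V) : Finset (Submodule F V) :=
  Finset.univ.filter fun W => W ≤ U ∧ Inv T W

theorem mem_invs {U W : Submodule F V} : W ∈ invs T U ↔ W ≤ U ∧ Inv T W := by
  simp [invs]

/-- The value of the Möbius function attached to a multiset of monic irreducible factors. -/
noncomputable def phi (F : Type*) [Field F] [Fintype F] [DecidableEq F] (s : Multiset F[X]) : ℤ :=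
  ∏ f ∈ s.toFinset, (-1) ^ (s.count f) *
    ((Fintype.card F : ℤ) ^ f.natDegree) ^ (s.count f * (s.count f - 1) / 2)

theorem phi_zero : phi F (0 : Multiset F[X]) = 1 := by simp [phi]

theorem phi_cons (f : F[X]) (s : Multiset F[X]) :
    phi F (f ::ₘ s) = -(((Fintype.card F : ℤ) ^ f.natDegree) ^ (s.count f)) * phi F s := by
  unfold phi
  have hsub : s.toFinset ⊆ (f ::ₘ s).toFinset := by simp
  rw [Finset.prod_subset hsub fun g _ hg => by
    rw [Multiset.mem_toFinset] at hg
    simp [Multiset.count_eq_zero_of_notMem hg]]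
  have hf : f ∈ (f ::ₘ s).toFinset := by simp
  rw [← Finset.mul_prod_erase _ _ hf, ← Finset.mul_prod_erase _ _ hf, ← mul_assoc]
  congr 1
  · rw [Multiset.count_cons_self, pow_succ]
    set m := s.count f
    have hm : (m + 1) * (m + 1 - 1) / 2 = m * (m - 1) / 2 + m := by
      rw [← Nat.choose_two_right, ← Nat.choose_two_right, Nat.choose_succ_succ, Nat.choose_one_right, add_comm]
    rw [hm, pow_add]
    ring
  · refine Finset.prod_congr rfl fun g hg => ?_
    rw [Multiset.count_cons_of_ne (Finset.ne_of_mem_erase hg)]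

/-- The complements of a simple invariant subspace correspond to the intertwining maps. -/
theorem card_compls {A W₀ U : Submodule F V} (hA : IsSimpleInv T A) (hW₀ : Inv T W₀) (hU : Inv T U)
    (hAU : A ≤ U) (hW₀U : W₀ ≤ U) (hi : A ⊓ W₀ = ⊥) (hs : A ⊔ W₀ = U) :
    Nat.card {W : Submodule F V // W ≤ U ∧ Inv T W ∧ A ⊓ W = ⊥ ∧ A ⊔ W = U} =
      Nat.card (CHom T W₀ A hW₀ hA.1) := by
  classical
  let g : CHom T W₀ A hW₀ hA.1 → (↥W₀ →ₗ[F] V) := fun h => W₀.subtype + A.subtype.comp h.1
  have hg : ∀ h w, g h w = (w : V) + (h.1 w : V) := fun h w => rfl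
  have hdisj : ∀ v, v ∈ A → v ∈ W₀ → v = 0 := fun v h1 h2 => by
    have : v ∈ A ⊓ W₀ := ⟨h1, h2⟩
    rwa [hi, Submodule.mem_bot] at this
  have hinv : ∀ h, Inv T (LinearMap.range (g h)) := by
    rintro h _ ⟨w, rfl⟩
    refine ⟨T.restrict hW₀ w, ?_⟩
    rw [hg, hg, h.2, map_add]; rfl
  have hinf : ∀ h, A ⊓ LinearMap.range (g h) = ⊥ := fun h => by
    rw [Submodule.eq_bot_iff]
    rintro _ ⟨hv, w, rfl⟩
    rw [SetLike.mem_coe, hg, Submodule.add_mem_iff_left _ (h.1 w).2] at hv
    have hw : w = 0 := Subtype.ext (hdisj _ hv w.2)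
    rw [hw, map_zero]
  have hsup : ∀ h, A ⊔ LinearMap.range (g h) = U := fun h => by
    refine le_antisymm (sup_le hAU ?_) (hs ▸ sup_le le_sup_left fun v hv => ?_)
    · rintro _ ⟨w, rfl⟩
      exact add_mem (hW₀U w.2) (hAU (h.1 _).2)
    · have : v = (-(h.1 ⟨v, hv⟩) : ↥A) + g h ⟨v, hv⟩ := by
        rw [hg, NegMemClass.coe_neg]; abel
      rw [this]
      exact Submodule.add_mem_sup (-(h.1 ⟨v, hv⟩)).2 ⟨_, rfl⟩
  refine (Nat.card_eq_of_bijective
    (fun h => (⟨LinearMap.range (g h), (hsup h) ▸ le_sup_right, hinv h, hinf h, hsup h⟩ :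
      {W : Submodule F V // W ≤ U ∧ Inv T W ∧ A ⊓ W = ⊥ ∧ A ⊔ W = U})) ⟨fun h h' he => ?_, fun W => ?_⟩).symm
  · refine Subtype.ext (LinearMap.ext fun w => ?_)
    obtain ⟨w', hw'⟩ := (congrArg Subtype.val he).le ⟨w, rfl⟩
    rw [hg, hg] at hw'
    have h0 : (w' : V) - w = 0 := hdisj _ (by
      rw [show (w' : V) - w = (h.1 w : V) - (h'.1 w' : V) by linear_combination (norm := module) hw']
      exact sub_mem (h.1 w).2 (h'.1 w').2) (sub_mem w'.2 w.2)
    obtain rfl : w' = w := Subtype.ext (sub_eq_zero.1 h0)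
    exact Subtype.ext (add_left_cancel hw').symm
  · obtain ⟨W, hWU, hW, hWi, hWs⟩ := W
    let e := splitEquiv hAU hWU hWi hWs
    let h : ↥W₀ →ₗ[F] ↥A :=
      -((LinearMap.fst F ↥A ↥W).comp (e.symm.toLinearMap.comp (Submodule.inclusion hW₀U)))
    have hmem : ∀ w : ↥W₀, (w : V) + (h w : V) = ((e.symm (Submodule.inclusion hW₀U w)).2 : V) := fun w => by
      have h1 : ((e (e.symm (Submodule.inclusion hW₀U w))) : V) = w := by rw [LinearEquiv.apply_symm_apply]; rfl
      have h2 : ((e.symm (Submodule.inclusion hW₀U w)).1 : V) + (e.symm (Submodule.inclusion hW₀U w)).2 = w := h1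
      show (w : V) + -((e.symm (Submodule.inclusion hW₀U w)).1 : V) = _
      rw [← h2]; abel
    have hc : ∀ w : ↥W₀, h (T.restrict hW₀ w) = T.restrict hA.1 (h w) := fun w => by
      obtain ⟨x, hx⟩ := e.surjective (Submodule.inclusion hW₀U w)
      have hx' : Submodule.inclusion hW₀U (T.restrict hW₀ w) =
          e ((T.restrict hA.1).prodMap (T.restrict hW) x) := by
        rw [← splitEquiv_comm hAU hWU hWi hWs hA.1 hW hU x]
        show _ = T.restrict hU (e x)
        rw [hx]; rfl
      show -(e.symm (Submodule.inclusion hW₀U (T.restrict hW₀ w))).1 =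
        T.restrict hA.1 (-(e.symm (Submodule.inclusion hW₀U w)).1)
      rw [hx', ← hx, LinearEquiv.symm_apply_apply, LinearEquiv.symm_apply_apply, map_neg]
      rfl
    refine ⟨⟨h, hc⟩, Subtype.ext (?_ : LinearMap.range (g ⟨h, hc⟩) = W)⟩
    refine le_antisymm ?_ fun c hc' => ?_
    · rintro _ ⟨w, rfl⟩
      rw [hg, hmem]; exact Submodule.coe_mem _
    · obtain ⟨a, ha, w, hw, hcw⟩ := Submodule.mem_sup.1 (hs.ge (hWU hc'))
      refine ⟨⟨w, hw⟩, ?_⟩
      rw [hg, hmem]
      have : e.symm (Submodule.inclusion hW₀U ⟨w, hw⟩) = (-⟨a, ha⟩, ⟨c, hc'⟩) := by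
        rw [LinearEquiv.symm_apply_eq]
        refine Subtype.ext ?_
        show w = -a + c
        rw [← hcw]; abel
      rw [this]

/-- Weisner's recursion determines the Möbius function. -/
theorem eq_phi (hT : Module.End.IsSemisimple T) (M : Submodule F V → ℤ) (hbot : M ⊥ = 1)
    (hM : ∀ U, Inv T U → U ≠ ⊥ → ∑ W ∈ invs T U, M W = 0) {U : Submodule F V} (hU : Inv T U) :
    M U = phi F (facs T U hU) := by
  classical
  induction hd : finrank F U using Nat.strong_induction_on generalizing U with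
  | _ d ih =>
    by_cases hU0 : U = ⊥
    · subst hU0
      rw [hbot, facs_bot, phi_zero]
    obtain ⟨A, hAU, hA⟩ := exists_simple_le hU hU0
    -- Weisner
    have hw : ∀ X, Inv T X → A ≤ X → ∑ W ∈ (invs T X).filter (fun W => A ⊔ W = X), M W = 0 := by
      intro X hX hAX
      induction hx : finrank F X using Nat.strong_induction_on generalizing X with
      | _ k ihk =>
        have hX0 : X ≠ ⊥ := fun h => hA.2.1 (le_bot_iff.1 (h ▸ hAX))
        have hmaps : ∀ W ∈ invs T X, A ⊔ W ∈ (invs T X).filter (fun Y => A ≤ Y) := fun W hW => by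
          rw [mem_invs] at hW
          rw [Finset.mem_filter, mem_invs]
          exact ⟨⟨sup_le hAX hW.1, hA.1.sup hW.2⟩, le_sup_left⟩
        have hsum := hM X hX hX0
        rw [← Finset.sum_fiberwise_of_maps_to hmaps, Finset.sum_eq_single X] at hsum
        · exact hsum
        · intro Y hY hne
          rw [Finset.mem_filter, mem_invs] at hY
          have hlt : Y < X := lt_of_le_of_ne hY.1.1 hne
          rw [← ihk _ (hx ▸ Submodule.finrank_lt_finrank_of_lt hlt) Y hY.1.2 hY.2 rfl]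
          refine Finset.sum_congr ?_ fun _ _ => rfl
          ext W
          simp only [Finset.mem_filter, mem_invs]
          exact ⟨fun h => ⟨⟨h.2 ▸ le_sup_right, h.1.2⟩, h.2⟩, fun h => ⟨⟨h.1.1.trans hlt.le, h.1.2⟩, h.2⟩⟩
        · intro h
          exact absurd (Finset.mem_filter.2 ⟨mem_invs.2 ⟨le_rfl, hX⟩, hAX⟩) h
    have hfil : (invs T U).filter (fun W => A ⊔ W = U) = insert U
        (Finset.univ.filter fun W => W ≤ U ∧ Inv T W ∧ A ⊓ W = ⊥ ∧ A ⊔ W = U) := by
      ext W
      simp only [Finset.mem_filter, mem_invs, Finset.mem_insert, Finset.mem_univ, true_and]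
      constructor
      · rintro ⟨⟨hWU, hW⟩, hs⟩
        rcases hA.2.2 (A ⊓ W) inf_le_left (hA.1.inf hW) with h | h
        · exact Or.inr ⟨hWU, hW, h, hs⟩
        · exact Or.inl (by rwa [sup_eq_right.2 (inf_eq_left.1 h)] at hs)
      · rintro (rfl | ⟨hWU, hW, -, hs⟩)
        · exact ⟨⟨le_rfl, hU⟩, sup_eq_right.2 hAU⟩
        · exact ⟨⟨hWU, hW⟩, hs⟩
    have hnot : U ∉ Finset.univ.filter fun W => W ≤ U ∧ Inv T W ∧ A ⊓ W = ⊥ ∧ A ⊔ W = U := fun h =>
      hA.2.1 (by
        have := (Finset.mem_filter.1 h).2.2.2.1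
        rwa [inf_eq_left.2 hAU] at this)
    have hrec := hw U hU hAU
    rw [hfil, Finset.sum_insert hnot] at hrec
    obtain ⟨W₀, hW₀U, hW₀, hi, hs⟩ := exists_compl hT hA.1 hU hAU
    have hterm : ∀ W ∈ Finset.univ.filter (fun W => W ≤ U ∧ Inv T W ∧ A ⊓ W = ⊥ ∧ A ⊔ W = U),
        M W = phi F (facs T W₀ hW₀) := fun W hW => by
      have hW' := hW
      obtain ⟨-, hWU, hW, hWi, hWs⟩ := Finset.mem_filter.1 hW
      have hlt : W < U := lt_of_le_of_ne hWU fun h => hnot (h ▸ hW')
      rw [ih _ (hd ▸ Submodule.finrank_lt_finrank_of_lt hlt) hW rfl]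
      congr 1
      have h1 := facs_split hAU hWU hWi hWs hA.1 hW hU
      rw [facs_split hAU hW₀U hi hs hA.1 hW₀ hU] at h1
      exact (add_left_cancel h1).symm
    rw [Finset.sum_congr rfl hterm, Finset.sum_const, nsmul_eq_mul, ← Fintype.card_subtype,
      ← Nat.card_eq_fintype_card, card_compls hA hW₀ hU hAU hW₀U hi hs, card_chom hT hA hW₀] at hrec
    rw [facs_split hAU hW₀U hi hs hA.1 hW₀ hU, hA.facs_eq, Multiset.singleton_add, phi_cons, hA.natDegree_eq]
    push_cast at hrec ⊢
    linear_combination hrec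

end Cfsg.Agent.Lib.StVal12
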