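import Mathlib

/-!
Lib/StVal12/Semisimple: a semisimple endomorphism `T` of a finite vector space: invariant subspaces, their
characteristic polynomials, numbers of intertwining maps into a simple one, and the value of the Möbius
function of the lattice of invariant subspaces.
-/

set_option autoImplicit false
set_option linter.unusedSectionVars false

namespace Cfsg.Agent.Lib.StVal12

open Polynomial UniqueFactorizationMonoid Module

variable {F V : Type*} [Field F] [AddCommGroup V] [Module F V] [FiniteDimensional F V]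
variable (T : V →ₗ[F] V)

/-- Invariance of a subspace. -/
abbrev Inv (U : Submodule F V) : Prop := ∀ v ∈ U, T v ∈ U

theorem inv_bot : Inv T ⊥ := fun v hv => by
  rw [Submodule.mem_bot] at hv ⊢; rw [hv, map_zero]

theorem inv_top : Inv T ⊤ := fun _ _ => trivial

variable {T}

theorem Inv.sup {A B : Submodule F V} (hA : Inv T A) (hB : Inv T B) : Inv T (A ⊔ B) := by
  intro v hv
  obtain ⟨a, ha, b, hb, rfl⟩ := Submodule.mem_sup.1 hv
  rw [map_add]
  exact Submodule.add_mem_sup (hA a ha) (hB b hb)

theorem Inv.inf {A B : Submodule F V} (hA : Inv T A) (hB : Inv T B) : Inv T (A ⊓ B) :=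
  fun v hv => ⟨hA v hv.1, hB v hv.2⟩

variable (T)

/-- The factors of the characteristic polynomial on an invariant subspace. -/
noncomputable def facs [DecidableEq F] (U : Submodule F V) (h : Inv T U) : Multiset F[X] :=
  normalizedFactors (T.restrict h).charpoly

/-- The invariant subspace `A` has no proper non-zero invariant subspace. -/
def IsSimpleInv (A : Submodule F V) : Prop :=
  Inv T A ∧ A ≠ ⊥ ∧ ∀ B : Submodule F V, B ≤ A → Inv T B → B = ⊥ ∨ B = A

/-- Maps commuting with `T`. -/
abbrev CHom (W A : Submodule F V) (hW : Inv T W) (hA : Inv T A) :=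
  {h : ↥W →ₗ[F] ↥A // ∀ w, h (T.restrict hW w) = T.restrict hA (h w)}

variable {T}

theorem exists_simple_le {U : Submodule F V} (hU : Inv T U) (hne : U ≠ ⊥) :
    ∃ A, A ≤ U ∧ IsSimpleInv T A := by
  induction hd : finrank F U using Nat.strong_induction_on generalizing U with
  | _ d ih =>
    by_cases h : ∀ B : Submodule F V, B ≤ U → Inv T B → B = ⊥ ∨ B = U
    · exact ⟨U, le_rfl, hU, hne, h⟩
    · push Not at h
      obtain ⟨B, hBU, hB, hB0, hBne⟩ := h
      obtain ⟨A, hA, hs⟩ := ih _ (hd ▸ Submodule.finrank_lt_finrank_of_lt (lt_of_le_of_ne hBU hBne)) hB hB0 rfl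
      exact ⟨A, hA.trans hBU, hs⟩

/-- A map of finite order prime to the characteristic is semisimple. -/
theorem isSemisimple_of_pow_eq_one {N : ℕ} (hN : (N : F) ≠ 0) (hT : T ^ N = 1) : Module.End.IsSemisimple T := by
  refine Module.End.isSemisimple_of_squarefree_aeval_eq_zero
    (p := X ^ N - C 1) (Polynomial.separable_X_pow_sub_C 1 hN one_ne_zero).squarefree ?_
  simp [hT]

theorem exists_compl (hs : Module.End.IsSemisimple T) {A U : Submodule F V} (hA : Inv T A) (hU : Inv T U) (hAU : A ≤ U) :
    ∃ W, W ≤ U ∧ Inv T W ∧ A ⊓ W = ⊥ ∧ A ⊔ W = U := by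
  obtain ⟨Q, hQ, hc⟩ := Module.End.isSemisimple_iff.1 hs A hA
  have hQ' : Inv T Q := hQ
  refine ⟨Q ⊓ U, inf_le_right, hQ'.inf hU, ?_, ?_⟩
  · rw [← inf_assoc, hc.inf_eq_bot, bot_inf_eq]
  · rw [← sup_inf_assoc_of_le Q hAU, hc.sup_eq_top, top_inf_eq]

/-- An invariant direct decomposition as a linear equivalence. -/
noncomputable def splitEquiv {A W U : Submodule F V} (hAU : A ≤ U) (hWU : W ≤ U) (hi : A ⊓ W = ⊥)
    (hs : A ⊔ W = U) : (↥A × ↥W) ≃ₗ[F] ↥U :=
  LinearEquiv.ofBijective ((Submodule.inclusion hAU).coprod (Submodule.inclusion hWU)) <| by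
    constructor
    · rw [injective_iff_map_eq_zero]
      rintro ⟨⟨a, ha⟩, ⟨w, hw⟩⟩ h
      have h' : a + w = 0 := congrArg Subtype.val h
      have ha' : a ∈ A ⊓ W := ⟨ha, by rw [eq_neg_of_add_eq_zero_left h']; exact W.neg_mem hw⟩
      rw [hi, Submodule.mem_bot] at ha'
      rw [ha', zero_add] at h'
      simp [ha', h']
    · rintro ⟨u, hu⟩
      obtain ⟨a, ha, w, hw, rfl⟩ := Submodule.mem_sup.1 (hs.ge hu)
      exact ⟨(⟨a, ha⟩, ⟨w, hw⟩), rfl⟩

theorem splitEquiv_comm {A W U : Submodule F V} (hAU : A ≤ U) (hWU : W ≤ U) (hi : A ⊓ W = ⊥)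
    (hs : A ⊔ W = U) (hA : Inv T A) (hW : Inv T W) (hU : Inv T U) (x : ↥A × ↥W) :
    T.restrict hU (splitEquiv hAU hWU hi hs x) =
      splitEquiv hAU hWU hi hs ((T.restrict hA).prodMap (T.restrict hW) x) := by
  apply Subtype.ext
  show T ((x.1 : V) + (x.2 : V)) = T (x.1 : V) + T (x.2 : V)
  rw [map_add]

theorem charpoly_split {A W U : Submodule F V} (hAU : A ≤ U) (hWU : W ≤ U) (hi : A ⊓ W = ⊥)
    (hs : A ⊔ W = U) (hA : Inv T A) (hW : Inv T W) (hU : Inv T U) :
    (T.restrict hU).charpoly = (T.restrict hA).charpoly * (T.restrict hW).charpoly := by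
  rw [← LinearMap.charpoly_prodMap, ← LinearEquiv.charpoly_conj (splitEquiv hAU hWU hi hs)]
  congr 1
  refine LinearMap.ext fun u => ?_
  obtain ⟨x, rfl⟩ := (splitEquiv hAU hWU hi hs).surjective u
  rw [LinearEquiv.conj_apply_apply, LinearEquiv.symm_apply_apply]
  exact splitEquiv_comm hAU hWU hi hs hA hW hU x

variable [DecidableEq F]

theorem facs_split {A W U : Submodule F V} (hAU : A ≤ U) (hWU : W ≤ U) (hi : A ⊓ W = ⊥)
    (hs : A ⊔ W = U) (hA : Inv T A) (hW : Inv T W) (hU : Inv T U) :
    facs T U hU = facs T A hA + facs T W hW := by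
  rw [facs, charpoly_split hAU hWU hi hs hA hW hU,
    normalizedFactors_mul (LinearMap.charpoly_monic _).ne_zero (LinearMap.charpoly_monic _).ne_zero]
  rfl

theorem facs_bot : facs T (⊥ : Submodule F V) (inv_bot T) = 0 := by
  have h1 : (T.restrict (inv_bot T)).charpoly = 1 := by
    have hd := LinearMap.charpoly_natDegree (T.restrict (inv_bot T))
    rw [finrank_bot] at hd
    exact (LinearMap.charpoly_monic _).natDegree_eq_zero.1 hd
  rw [facs, h1, normalizedFactors_one]

/-! ### Simple invariant subspaces -/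

theorem restrict_pow_apply {A : Submodule F V} (hA : Inv T A) (i : ℕ) (a : ↥A) :
    (T.restrict hA ^ (i + 1)) a = T.restrict hA ((T.restrict hA ^ i) a) := by
  rw [pow_succ']; rfl

theorem IsSimpleInv.eq_of_mem {A : Submodule F V} (h : IsSimpleInv T A) {B : Submodule F V} (hBA : B ≤ A)
    (hB : Inv T B) {v : V} (hv : v ∈ B) (hv0 : v ≠ 0) : B = A :=
  (h.2.2 B hBA hB).resolve_left fun hb => hv0 (by rwa [hb, Submodule.mem_bot] at hv)

/-- A subspace of a simple invariant subspace stable under the restriction is trivial or everything. -/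
theorem IsSimpleInv.eq_top_of_stable {A : Submodule F V} (h : IsSimpleInv T A) {S : Submodule F ↥A}
    (hS : ∀ x ∈ S, T.restrict h.1 x ∈ S) {a : ↥A} (ha : a ∈ S) (ha0 : a ≠ 0) : S = ⊤ := by
  have hmap : S.map A.subtype = A := by
    refine h.eq_of_mem (Submodule.map_subtype_le A S) ?_ (v := (a : V)) ⟨a, ha, rfl⟩
      (fun h0 => ha0 (Subtype.ext h0))
    rintro _ ⟨x, hx, rfl⟩
    exact ⟨_, hS x hx, rfl⟩
  refine eq_top_iff.2 fun x _ => ?_
  obtain ⟨y, hy, hyx⟩ := hmap.ge x.2
  rwa [← Subtype.ext (show (y : V) = x from hyx)]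

theorem IsSimpleInv.minpoly_irreducible {A : Submodule F V} (h : IsSimpleInv T A) :
    Irreducible (minpoly F (T.restrict h.1)) := by
  set f := T.restrict h.1 with hf
  have hint : IsIntegral F f := Algebra.IsIntegral.isIntegral f
  haveI : Nontrivial ↥A := Submodule.nontrivial_iff_ne_bot.2 h.2.1
  refine ⟨minpoly.not_isUnit F f, fun g k hgk => ?_⟩
  by_contra hc
  push Not at hc
  obtain ⟨hg, hk⟩ := hc
  have hne := minpoly.ne_zero hint
  have hg0 : g ≠ 0 := fun h0 => hne (by rw [hgk, h0, zero_mul])
  have hk0 : k ≠ 0 := fun h0 => hne (by rw [hgk, h0, mul_zero])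
  have hdg : g.degree < (minpoly F f).degree := by
    rw [hgk, degree_mul, degree_eq_natDegree hg0, degree_eq_natDegree hk0, ← Nat.cast_add, Nat.cast_lt]
    have : k.natDegree ≠ 0 := fun h0 => hk (isUnit_iff_degree_eq_zero.2 (by rw [degree_eq_natDegree hk0, h0]; rfl))
    omega
  have hdk : k.degree < (minpoly F f).degree := by
    rw [hgk, degree_mul, degree_eq_natDegree hg0, degree_eq_natDegree hk0, ← Nat.cast_add, Nat.cast_lt]
    have : g.natDegree ≠ 0 := fun h0 => hg (isUnit_iff_degree_eq_zero.2 (by rw [degree_eq_natDegree hg0, h0]; rfl))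
    omega
  have hgf : aeval f g ≠ 0 := fun h0 => (minpoly.degree_le_of_ne_zero F f hg0 h0).not_gt hdg
  have hkf : aeval f k ≠ 0 := fun h0 => (minpoly.degree_le_of_ne_zero F f hk0 h0).not_gt hdk
  -- the kernel of `g(T)` is stable, hence trivial
  have hker : LinearMap.ker (aeval f g) = ⊥ := by
    by_contra hne'
    obtain ⟨a, ha, ha0⟩ := Submodule.exists_mem_ne_zero_of_ne_bot hne'
    refine hgf (LinearMap.ker_eq_top.1 (h.eq_top_of_stable (fun x hx => ?_) ha ha0))
    rw [LinearMap.mem_ker] at hx ⊢
    have hc : Commute (aeval f g) f := by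
      simpa using (Commute.all g X).map (aeval f)
    show (aeval f g * f) x = 0
    rw [hc.eq, Module.End.mul_apply, hx, map_zero]
  refine hkf (LinearMap.ext fun a => ?_)
  have : (aeval f g) ((aeval f k) a) = 0 := by
    rw [← Module.End.mul_apply, ← map_mul, ← hgk, minpoly.aeval, LinearMap.zero_apply]
  rw [← LinearMap.mem_ker, hker, Submodule.mem_bot] at this
  rw [this, LinearMap.zero_apply]

/-- The Krylov vectors of a non-zero vector of a simple invariant subspace form a basis. -/
theorem IsSimpleInv.krylov {A : Submodule F V} (h : IsSimpleInv T A) {a : ↥A} (ha : a ≠ 0) :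
    (T.restrict h.1).charpoly = minpoly F (T.restrict h.1) ∧
    LinearIndependent F (fun i : Fin (finrank F ↥A) => (T.restrict h.1 ^ (i : ℕ)) a) ∧
    Submodule.span F (Set.range fun i : Fin (finrank F ↥A) => (T.restrict h.1 ^ (i : ℕ)) a) = ⊤ := by
  set f := T.restrict h.1 with hf
  have hint : IsIntegral F f := Algebra.IsIntegral.isIntegral f
  set e := (minpoly F f).natDegree with he
  set w : Fin e → ↥A := fun i => (f ^ (i : ℕ)) a with hw
  have hspan : Submodule.span F (Set.range w) = ⊤ := by
    have hee : (f ^ e) a ∈ Submodule.span F (Set.range w) := by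
      have h0 : aeval f (minpoly F f) a = 0 := by rw [minpoly.aeval, LinearMap.zero_apply]
      rw [aeval_eq_sum_range, LinearMap.sum_apply, Finset.sum_range_succ, ← he,
        (minpoly.monic hint).coeff_natDegree, one_smul, add_eq_zero_iff_neg_eq] at h0
      rw [← h0]
      exact Submodule.neg_mem _ (Submodule.sum_mem _ fun i hi =>
        Submodule.smul_mem _ _ (Submodule.subset_span ⟨⟨i, Finset.mem_range.1 hi⟩, rfl⟩))
    have he0 : 0 < e := by
      haveI : Nontrivial ↥A := Submodule.nontrivial_iff_ne_bot.2 h.2.1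
      exact minpoly.natDegree_pos hint
    refine h.eq_top_of_stable (fun x hx => ?_) (Submodule.subset_span ⟨⟨0, he0⟩, rfl⟩)
      (by simpa [hw] using ha)
    refine Submodule.span_induction (p := fun x _ => f x ∈ Submodule.span F (Set.range w)) ?_ (by simp)
      (fun x y _ _ hx hy => by rw [map_add]; exact add_mem hx hy)
      (fun c x _ hx => by rw [map_smul]; exact Submodule.smul_mem _ c hx) hx
    rintro _ ⟨i, rfl⟩
    rw [hw, hf, ← restrict_pow_apply h.1, ← hf]
    by_cases hi : (i : ℕ) + 1 < e
    · exact Submodule.subset_span ⟨⟨_, hi⟩, rfl⟩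
    · rwa [show (i : ℕ) + 1 = e by omega]
  have hle : finrank F ↥A ≤ e := by
    rw [← finrank_top F ↥A, ← hspan]
    exact (finrank_range_le_card w).trans_eq (Fintype.card_fin e)
  have hdvd := LinearMap.minpoly_dvd_charpoly f
  have hle' : e ≤ finrank F ↥A := by
    rw [← LinearMap.charpoly_natDegree f]
    exact Polynomial.natDegree_le_of_dvd hdvd (LinearMap.charpoly_monic f).ne_zero
  have hed : e = finrank F ↥A := le_antisymm hle' hle
  refine ⟨(Polynomial.eq_of_monic_of_dvd_of_natDegree_le (minpoly.monic hint) (LinearMap.charpoly_monic f)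
    hdvd (by rw [LinearMap.charpoly_natDegree, ← he, hed])), ?_, ?_⟩
  · exact linearIndependent_of_top_le_span_of_card_eq_finrank
      (by
        refine hspan.ge.trans (Submodule.span_mono ?_)
        rintro _ ⟨i, rfl⟩
        exact ⟨⟨i, hed ▸ i.2⟩, rfl⟩)
      (Fintype.card_fin _)
  · refine eq_top_iff.2 (hspan.ge.trans (Submodule.span_mono ?_))
    rintro _ ⟨i, rfl⟩
    exact ⟨⟨i, hed ▸ i.2⟩, rfl⟩

theorem IsSimpleInv.facs_eq {A : Submodule F V} (h : IsSimpleInv T A) :
    facs T A h.1 = {(T.restrict h.1).charpoly} := by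
  haveI : Nontrivial ↥A := Submodule.nontrivial_iff_ne_bot.2 h.2.1
  obtain ⟨a, ha⟩ := exists_ne (0 : ↥A)
  rw [facs, (h.krylov ha).1, normalizedFactors_irreducible h.minpoly_irreducible,
    (minpoly.monic (Algebra.IsIntegral.isIntegral _)).normalize_eq_self]

theorem IsSimpleInv.natDegree_eq {A : Submodule F V} (h : IsSimpleInv T A) :
    (T.restrict h.1).charpoly.natDegree = finrank F ↥A := LinearMap.charpoly_natDegree _

/-! ### Intertwining maps -/

theorem aeval_comm {A B : Submodule F V} {hA : Inv T A} {hB : Inv T B} (h : CHom T B A hB hA) (k : F[X])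
    (x : ↥B) : h.1 (aeval (T.restrict hB) k x) = aeval (T.restrict hA) k (h.1 x) := by
  induction k using Polynomial.induction_on' generalizing x with
  | add p q hp hq => simp [hp, hq]
  | monomial n c =>
    simp only [aeval_monomial, Module.End.mul_apply, Module.algebraMap_end_apply, map_smul]
    congr 1
    induction n generalizing x with
    | zero => rfl
    | succ n ih => rw [pow_succ, pow_succ, Module.End.mul_apply, Module.End.mul_apply, ih, h.2]

/-- Every non-zero vector of a simple invariant subspace generates it. -/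
theorem IsSimpleInv.aeval_surjective {A : Submodule F V} (h : IsSimpleInv T A) {a : ↥A} (ha : a ≠ 0) (x : ↥A) :
    ∃ k : F[X], aeval (T.restrict h.1) k a = x := by
  let π : F[X] →ₗ[F] ↥A := (LinearMap.applyₗ a).comp (aeval (T.restrict h.1)).toLinearMap
  have hπ : LinearMap.range π = ⊤ := by
    refine h.eq_top_of_stable ?_ (a := a) ⟨1, by simp [π]⟩ ha
    rintro _ ⟨k, rfl⟩
    exact ⟨X * k, by simp [π]⟩
  exact LinearMap.range_eq_top.1 hπ x

/-- The number of intertwining maps between two simple invariant subspaces. -/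
theorem card_chom_simple [Fintype F] {A B : Submodule F V} (hA : IsSimpleInv T A) (hB : IsSimpleInv T B) :
    Nat.card (CHom T B A hB.1 hA.1) =
      (Fintype.card F ^ finrank F ↥A) ^
        (facs T B hB.1).count (T.restrict hA.1).charpoly := by
  classical
  haveI : Nontrivial ↥B := Submodule.nontrivial_iff_ne_bot.2 hB.2.1
  haveI : Nontrivial ↥A := Submodule.nontrivial_iff_ne_bot.2 hA.2.1
  obtain ⟨b, hb⟩ := exists_ne (0 : ↥B)
  rw [hB.facs_eq, Multiset.count_singleton]
  have hev : Function.Injective (fun h : CHom T B A hB.1 hA.1 => h.1 b) := fun h h' he => by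
    refine Subtype.ext (LinearMap.ext fun x => ?_)
    obtain ⟨k, rfl⟩ := hB.aeval_surjective hb x
    rw [aeval_comm, aeval_comm]
    exact congrArg _ he
  split_ifs with hf
  · rw [pow_one, ← Nat.card_eq_fintype_card, ← Module.natCard_eq_pow_finrank]
    refine Nat.card_eq_of_bijective _ ⟨hev, fun a => ?_⟩
    let πB : F[X] →ₗ[F] ↥B := (LinearMap.applyₗ b).comp (aeval (T.restrict hB.1)).toLinearMap
    let πA : F[X] →ₗ[F] ↥A := (LinearMap.applyₗ a).comp (aeval (T.restrict hA.1)).toLinearMap
    have hsurj : Function.Surjective πB := hB.aeval_surjective hb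
    have hker : LinearMap.ker πB ≤ LinearMap.ker πA := fun k hk => by
      have hk' : aeval (T.restrict hB.1) k b = 0 := hk
      have hd : minpoly F (T.restrict hB.1) ∣ k := by
        by_contra hd
        obtain ⟨u, v, huv⟩ := (hB.minpoly_irreducible.coprime_iff_not_dvd).2 hd
        apply hb
        have := congrArg (fun r => aeval (T.restrict hB.1) r b) huv
        simpa [hk', minpoly.aeval] using this.symm
      obtain ⟨c, rfl⟩ := hd
      show aeval (T.restrict hA.1) (minpoly F (T.restrict hB.1) * c) a = 0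
      rw [← (hB.krylov hb).1, ← hf, mul_comm, map_mul, LinearMap.aeval_self_charpoly, mul_zero,
        LinearMap.zero_apply]
    let h : ↥B →ₗ[F] ↥A := ((LinearMap.ker πB).liftQ πA hker).comp
      (LinearMap.quotKerEquivOfSurjective πB hsurj).symm.toLinearMap
    have hh : ∀ k, h (πB k) = πA k := fun k => by
      show (LinearMap.ker πB).liftQ πA hker _ = _
      have : (LinearMap.quotKerEquivOfSurjective πB hsurj).symm (πB k) = Submodule.Quotient.mk k := by
        rw [LinearEquiv.symm_apply_eq]; rfl
      rw [LinearEquiv.coe_coe, this]; rfl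
    refine ⟨⟨h, fun x => ?_⟩, ?_⟩
    · obtain ⟨k, rfl⟩ := hsurj x
      rw [hh, show T.restrict hB.1 (πB k) = πB (X * k) by simp [πB], hh]
      simp [πA]
    · have hb' : πB 1 = b := by simp [πB]
      show h b = a
      rw [← hb', hh]; simp [πA]
  · rw [pow_zero, Nat.card_eq_one_iff_unique]
    refine ⟨⟨fun h h' => ?_⟩, ⟨⟨0, fun w => by simp⟩⟩⟩
    have hzero : ∀ g : CHom T B A hB.1 hA.1, g.1 = 0 := fun g => by
      by_contra hg
      have hk : LinearMap.ker g.1 = ⊥ := by
        by_contra hne
        obtain ⟨x, hx, hx0⟩ := Submodule.exists_mem_ne_zero_of_ne_bot hne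
        refine hg (LinearMap.ker_eq_top.1 (hB.eq_top_of_stable (fun y hy => ?_) hx hx0))
        rw [LinearMap.mem_ker] at hy ⊢
        rw [g.2, hy, map_zero]
      have hr : LinearMap.range g.1 = ⊤ := by
        obtain ⟨x, hx⟩ := DFunLike.ne_iff.1 hg
        refine hA.eq_top_of_stable ?_ (LinearMap.mem_range_self g.1 x) hx
        rintro _ ⟨y, rfl⟩
        exact ⟨_, g.2 y⟩
      let e : ↥B ≃ₗ[F] ↥A := LinearEquiv.ofBijective g.1 ⟨LinearMap.ker_eq_bot.1 hk, LinearMap.range_eq_top.1 hr⟩
      refine hf ?_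
      rw [← LinearEquiv.charpoly_conj e (T.restrict hB.1)]
      congr 1
      refine LinearMap.ext fun y => ?_
      obtain ⟨x, rfl⟩ := e.surjective y
      rw [LinearEquiv.conj_apply_apply, LinearEquiv.symm_apply_apply]
      exact (g.2 x).symm
    exact Subtype.ext ((hzero h).trans (hzero h').symm)

/-- The number of intertwining maps into a simple invariant subspace. -/
theorem card_chom [Fintype F] (hs : Module.End.IsSemisimple T) {A : Submodule F V} (hA : IsSimpleInv T A)
    {W : Submodule F V} (hW : Inv T W) :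
    Nat.card (CHom T W A hW hA.1) =
      (Fintype.card F ^ finrank F ↥A) ^ (facs T W hW).count (T.restrict hA.1).charpoly := by
  induction hd : finrank F W using Nat.strong_induction_on generalizing W with
  | _ d ih =>
    by_cases hW0 : W = ⊥
    · subst hW0
      rw [facs_bot, Multiset.count_zero, pow_zero, Nat.card_eq_one_iff_unique]
      refine ⟨⟨fun h h' => Subtype.ext (LinearMap.ext fun x => ?_)⟩, ⟨⟨0, fun w => by simp⟩⟩⟩
      rw [show x = 0 from Subtype.ext ((Submodule.mem_bot F).1 x.2), map_zero, map_zero]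
    · obtain ⟨B, hBW, hB⟩ := exists_simple_le hW hW0
      obtain ⟨C, hCW, hC, hi, hsup⟩ := exists_compl hs hB.1 hW hBW
      have hlt : C < W := lt_of_le_of_ne hCW fun h => hB.2.1 (by
        rw [h, inf_eq_left.2 hBW] at hi; exact hi)
      rw [facs_split hBW hCW hi hsup hB.1 hC hW, Multiset.count_add, pow_add, ← card_chom_simple hA hB,
        ← ih _ (hd ▸ Submodule.finrank_lt_finrank_of_lt hlt) hC rfl, ← Nat.card_prod]
      set e := splitEquiv hBW hCW hi hsup
      have hc := splitEquiv_comm hBW hCW hi hsup hB.1 hC hW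
      let toF : CHom T B A hB.1 hA.1 × CHom T C A hC hA.1 → CHom T W A hW hA.1 := fun p =>
        ⟨(p.1.1.coprod p.2.1).comp e.symm.toLinearMap, fun w => by
          obtain ⟨x, rfl⟩ := e.surjective w
          simp [hc, p.1.2, p.2.2, e]⟩
      let invF : CHom T W A hW hA.1 → CHom T B A hB.1 hA.1 × CHom T C A hC hA.1 := fun g =>
        (⟨(g.1.comp e.toLinearMap).comp (LinearMap.inl F ↥B ↥C), fun x => by
            have := g.2 (e (x, 0))
            rw [hc] at this
            simpa [e] using this⟩,
          ⟨(g.1.comp e.toLinearMap).comp (LinearMap.inr F ↥B ↥C), fun x => by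
            have := g.2 (e (0, x))
            rw [hc] at this
            simpa [e] using this⟩)
      refine (Nat.card_congr ⟨toF, invF, fun p => ?_, fun g => ?_⟩).symm
      · refine Prod.ext (Subtype.ext (LinearMap.ext fun x => ?_)) (Subtype.ext (LinearMap.ext fun x => ?_)) <;>
          simp [toF, invF]
      · refine Subtype.ext (LinearMap.ext fun w => ?_)
        obtain ⟨x, rfl⟩ := e.surjective w
        simp [toF, invF, ← map_add]

end Cfsg.Agent.Lib.StVal12
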