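import Cfsg.Agent.Lib.StVal12.Flags
import Cfsg.Agent.Lib.StVal12.Moebius

/-!
Lib/StVal12/Sum: the alternating sum over permutations with `κ i ≤ i + 1` of numbers of invariant flags
satisfies the recursion of the Möbius function.
-/

set_option autoImplicit false
set_option linter.unusedSectionVars false

namespace Cfsg.Agent.Lib.StVal12

open Module
open Cfsg.Agent.Lib.GLFlags

/-- The permutations occurring in the Steinberg sum. -/
def Good {m : ℕ} (κ : Equiv.Perm (Fin m)) : Prop := ∀ i : Fin m, (κ i).val ≤ 1 + i.val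

/-- The composition attached to a permutation. -/
def muK {m : ℕ} (κ : Equiv.Perm (Fin m)) : Fin m → ℕ := fun i => 1 + i.val - (κ i).val

theorem sum_muK {m : ℕ} (κ : Equiv.Perm (Fin m)) (hκ : Good κ) : ∑ i, muK κ i = m := by
  unfold muK
  rw [Finset.sum_tsub_distrib _ fun i _ => hκ i, Finset.sum_add_distrib,
    Equiv.sum_comp κ (fun i : Fin m => (i : ℕ))]
  simp

/-- A permutation of an initial segment followed by a cycle on the rest. -/
noncomputable def glue {m : ℕ} (a : Fin (m + 1)) (σ : Equiv.Perm (Fin a.val)) : Equiv.Perm (Fin (m + 1)) :=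
  Fin.cycleIcc a (Fin.last m) * σ.viaFintypeEmbedding (Fin.castLEEmb a.2.le)

theorem glue_lt {m : ℕ} (a : Fin (m + 1)) (σ : Equiv.Perm (Fin a.val)) (i : Fin (m + 1)) (h : i.val < a.val) :
    (glue a σ i).val = (σ ⟨i, h⟩).val := by
  have hi : i = Fin.castLEEmb a.2.le ⟨i, h⟩ := Fin.ext rfl
  rw [glue, Equiv.Perm.mul_apply]
  conv_lhs => rw [hi, Equiv.Perm.viaFintypeEmbedding_apply_image]
  rw [Fin.cycleIcc_of_lt (show Fin.castLEEmb a.2.le (σ ⟨i, h⟩) < a from (σ ⟨i, h⟩).2)]
  rfl

theorem glue_ge {m : ℕ} (a : Fin (m + 1)) (σ : Equiv.Perm (Fin a.val)) (i : Fin (m + 1)) (h : a.val ≤ i.val) :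
    (glue a σ i).val = if i.val = m then a.val else i.val + 1 := by
  have hi : i ∉ Set.range (Fin.castLEEmb a.2.le) := by
    rintro ⟨j, rfl⟩
    exact absurd j.2 (not_lt.2 h)
  rw [glue, Equiv.Perm.mul_apply, Equiv.Perm.viaFintypeEmbedding_apply_notMem_range _ _ hi]
  split_ifs with hm
  · rw [show i = Fin.last m from Fin.ext hm, Fin.cycleIcc_of_last (Fin.le_last a)]
  · have hlt : i < Fin.last m := lt_of_le_of_ne (Fin.le_last i) fun e => hm (by rw [e]; rfl)
    rw [Fin.cycleIcc_of_ge_of_lt h hlt, Fin.val_add_one_of_lt hlt]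

theorem sign_glue {m : ℕ} (a : Fin (m + 1)) (σ : Equiv.Perm (Fin a.val)) :
    ((Equiv.Perm.sign (glue a σ) : ℤˣ) : ℤ) = (-1) ^ (m - a.val) * ((Equiv.Perm.sign σ : ℤˣ) : ℤ) := by
  rw [glue, map_mul, Fin.sign_cycleIcc_of_le (Fin.le_last a), Equiv.Perm.viaFintypeEmbedding_sign]
  simp

theorem good_glue {m : ℕ} {a : Fin (m + 1)} {σ : Equiv.Perm (Fin a.val)} (hσ : Good σ) : Good (glue a σ) := by
  intro i
  by_cases h : i.val < a.val
  · rw [glue_lt a σ i h]; exact hσ ⟨i, h⟩
  · rw [glue_ge a σ i (by omega)]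
    split_ifs <;> omega

/-- Above the image of the last position a good permutation is a shift. -/
theorem good_shift {m : ℕ} {κ : Equiv.Perm (Fin (m + 1))} (hκ : Good κ) (i : Fin (m + 1))
    (ha : (κ (Fin.last m)).val ≤ i.val) (hi : i.val < m) : (κ i).val = i.val + 1 := by
  induction hd : m - i.val using Nat.strong_induction_on generalizing i with
  | _ d ih =>
    obtain ⟨i₀, hi₀⟩ := κ.surjective ⟨i.val + 1, by omega⟩
    have h1 : i.val + 1 ≤ 1 + i₀.val := by
      have := hκ i₀; rw [hi₀] at this; exact this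
    have h2 : i₀.val ≠ m := fun h => by
      have e : (κ (Fin.last m)).val = i.val + 1 := by
        rw [show Fin.last m = i₀ from (Fin.ext h).symm, hi₀]
      omega
    have h3 : i₀.val < m := lt_of_le_of_ne (Nat.le_of_lt_succ i₀.2) h2
    by_cases h4 : i₀.val = i.val
    · rw [← Fin.ext h4, hi₀, h4]
    · have h5 := ih (m - i₀.val) (by omega) i₀ (by omega) h3 rfl
      have h6 := congrArg Fin.val hi₀
      simp only at h6
      omega

theorem exists_glue {m : ℕ} {κ : Equiv.Perm (Fin (m + 1))} (hκ : Good κ) :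
    ∃ (a : Fin (m + 1)) (σ : Equiv.Perm (Fin a.val)), Good σ ∧ glue a σ = κ := by
  set a := κ (Fin.last m) with ha
  have hsmall : ∀ i : Fin (m + 1), i.val < a.val → (κ i).val < a.val := by
    intro i hi
    by_contra hc
    rcases (not_lt.1 hc).eq_or_lt with he | hlt
    · have e : i = Fin.last m := κ.injective ((Fin.ext he.symm).trans ha)
      have := congrArg Fin.val e
      simp at this
      omega
    · have hk := good_shift hκ ⟨(κ i).val - 1, by omega⟩ (show a.val ≤ (κ i).val - 1 by omega)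
        (show (κ i).val - 1 < m by omega)
      have e : (⟨(κ i).val - 1, by omega⟩ : Fin (m + 1)) = i := κ.injective (Fin.ext (by simp only at hk ⊢; omega))
      have := congrArg Fin.val e
      simp only at this
      omega
  let f : Fin a.val → Fin a.val := fun i => ⟨(κ ⟨i, by omega⟩).val, hsmall _ i.2⟩
  have hf : Function.Injective f := fun i j h => by
    have h' : (f i).val = (f j).val := congrArg Fin.val h
    have h'' := κ.injective (Fin.ext h')
    simp only [Fin.mk.injEq] at h''
    exact Fin.ext h'' 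
  refine ⟨a, Equiv.ofBijective f (Finite.injective_iff_bijective.1 hf), fun i => hκ _, ?_⟩
  refine Equiv.ext fun i => Fin.ext ?_
  by_cases h : i.val < a.val
  · rw [glue_lt _ _ i h]; rfl
  · rw [glue_ge _ _ i (by omega)]
    split_ifs with hm
    · rw [show i = Fin.last m from Fin.ext hm]
    · exact (good_shift hκ i (by rw [← ha]; omega) (by omega)).symm

theorem glue_inj {m : ℕ} {a b : Fin (m + 1)} {σ : Equiv.Perm (Fin a.val)} {τ : Equiv.Perm (Fin b.val)}
    (h : glue a σ = glue b τ) : (⟨a, σ⟩ : Σ a : Fin (m + 1), Equiv.Perm (Fin a.val)) = ⟨b, τ⟩ := by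
  have e := congrArg (fun κ : Equiv.Perm (Fin (m + 1)) => (κ (Fin.last m)).val) h
  simp only [glue_ge a σ (Fin.last m) (Nat.le_of_lt_succ a.2), glue_ge b τ (Fin.last m) (Nat.le_of_lt_succ b.2),
    Fin.val_last, if_true] at e
  obtain rfl : a = b := Fin.ext e
  congr 1
  refine Equiv.ext fun i => Fin.ext ?_
  have := congrArg (fun κ : Equiv.Perm (Fin (m + 1)) => (κ ⟨i, by omega⟩).val) h
  simpa [glue_lt a σ ⟨i, by omega⟩ i.2, glue_lt a τ ⟨i, by omega⟩ i.2] using this

theorem part_glue {m : ℕ} (a : Fin (m + 1)) (σ : Equiv.Perm (Fin a.val)) (hσ : Good σ) (k : ℕ)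
    (hk : k ≤ m + 1) :
    part (muK (glue a σ)) k =
      if k ≤ a.val then part (muK σ) k else if k ≤ m then a.val else m + 1 := by
  induction k with
  | zero => simp [part]
  | succ k ih =>
    have hk' : k < m + 1 := by omega
    rw [show k + 1 = (⟨k, hk'⟩ : Fin (m + 1)).val + 1 from rfl, part_succ, ih (by omega), muK]
    simp only
    by_cases h : k < a.val
    · rw [glue_lt a σ ⟨k, hk'⟩ h, if_pos (by omega), if_pos (by omega)]
      rw [show k + 1 = (⟨k, h⟩ : Fin a.val).val + 1 from rfl, part_succ]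
      rfl
    · rw [glue_ge a σ ⟨k, hk'⟩ (show a.val ≤ k by omega)]
      have hX : (if k ≤ a.val then part (muK σ) k else if k ≤ m then a.val else m + 1) = a.val := by
        split_ifs with h1 h2
        · rw [part_of_le (muK σ) (show a.val ≤ k by omega), sum_muK σ hσ]
        · rfl
        · omega
      rw [hX, if_neg (show ¬ k + 1 ≤ a.val by omega)]
      simp only
      split_ifs <;> omega

variable {F V : Type*} [Field F] [Fintype F] [AddCommGroup V] [Module F V] [FiniteDimensional F V]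

/-- Invariant flags inside `U`. -/
abbrev InvFlags (T : V →ₗ[F] V) (U : Submodule F V) {m : ℕ} (μ : Fin m → ℕ) :=
  {c : Fin (m + 1) → Submodule F V // IsFlag μ c ∧ (∀ k, c k ≤ U) ∧ ∀ k, Inv T (c k)}

open Classical in
/-- The alternating sum. -/
noncomputable def altSum (T : V →ₗ[F] V) (m : ℕ) (U : Submodule F V) : ℤ :=
  ∑ κ : Equiv.Perm (Fin m),
    if Good κ then ((Equiv.Perm.sign κ : ℤˣ) : ℤ) * (Nat.card (InvFlags T U (muK κ)) : ℤ) else 0

theorem card_invFlags_glue (T : V →ₗ[F] V) {m : ℕ} {U : Submodule F V} (hU : Inv T U)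
    (hd : finrank F U = m + 1) (a : Fin (m + 1)) (σ : Equiv.Perm (Fin a.val)) (hσ : Good σ) :
    Nat.card (InvFlags T U (muK (glue a σ))) =
      ∑ W ∈ (invs T U).filter (fun W : Submodule F V => finrank F ↥W = a.val), Nat.card (InvFlags T W (muK σ)) := by
  classical
  haveI : Finite V := Module.finite_of_finite F
  rw [← Finset.sum_coe_sort, ← Nat.card_sigma]
  have hp := part_glue a σ hσ
  have hpa : part (muK σ) a.val = a.val := by rw [part_of_le _ le_rfl, sum_muK σ hσ]
  have hmemW : ∀ W : {W // W ∈ (invs T U).filter (fun W : Submodule F V => finrank F ↥W = a.val)},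
      W.1 ≤ U ∧ Inv T W.1 ∧ finrank F ↥W.1 = a.val := fun W => by
    obtain ⟨h1, h2⟩ := Finset.mem_filter.1 W.2
    exact ⟨(mem_invs.1 h1).1, (mem_invs.1 h1).2, h2⟩
  let toF : InvFlags T U (muK (glue a σ)) →
      Σ W : {W // W ∈ (invs T U).filter (fun W : Submodule F V => finrank F ↥W = a.val)}, InvFlags T W.1 (muK σ) := fun c =>
    ⟨⟨c.1 ⟨a, by omega⟩, Finset.mem_filter.2 ⟨mem_invs.2 ⟨c.2.2.1 _, c.2.2.2 _⟩, by
        rw [c.2.1.2, hp _ (by omega)]; simp [hpa]⟩⟩,
      ⟨fun k => c.1 ⟨k, by omega⟩,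
        ⟨fun x y h => c.2.1.1 h, fun k => by rw [c.2.1.2, hp _ (by omega), if_pos (Nat.le_of_lt_succ k.2)]⟩,
        fun k => c.2.1.1 (show k.val ≤ a.val by omega), fun k => c.2.2.2 _⟩⟩
  let invF : (Σ W : {W // W ∈ (invs T U).filter (fun W : Submodule F V => finrank F ↥W = a.val)}, InvFlags T W.1 (muK σ)) →
      InvFlags T U (muK (glue a σ)) := fun p =>
    ⟨fun k => if h : k.val ≤ a.val then p.2.1 ⟨k, by omega⟩ else if k.val ≤ m then p.1.1 else U, by
      obtain ⟨W, c, hc⟩ := p
      obtain ⟨hWU, hW, hWd⟩ := hmemW W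
      refine ⟨⟨fun x y hxy => ?_, fun k => ?_⟩, fun k => ?_, fun k => ?_⟩
      · have hxy' : x.val ≤ y.val := hxy
        dsimp only
        split_ifs <;>
          first
            | omega
            | exact hc.1.1 hxy'
            | exact hc.2.1 _
            | exact (hc.2.1 _).trans hWU
            | exact hWU
            | exact le_rfl
      · rw [hp _ (Nat.le_of_lt_succ k.2)]
        dsimp only
        by_cases h1 : k.val ≤ a.val
        · rw [if_pos h1]
          exact (congrArg (fun S : Submodule F V => finrank F ↥S) (dif_pos h1)).trans (hc.1.2 _)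
        · rw [if_neg h1]
          refine (congrArg (fun S : Submodule F V => finrank F ↥S) (dif_neg h1)).trans ?_
          by_cases h2 : k.val ≤ m
          · exact ((congrArg (fun S : Submodule F V => finrank F ↥S) (if_pos h2)).trans hWd).trans (if_pos h2).symm
          · exact ((congrArg (fun S : Submodule F V => finrank F ↥S) (if_neg h2)).trans hd).trans (if_neg h2).symm
      · dsimp only
        split_ifs
        · exact (hc.2.1 _).trans hWU
        · exact hWU
        · exact le_rfl
      · dsimp only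
        split_ifs
        · exact hc.2.2 _
        · exact hW
        · exact hU⟩
  refine Nat.card_congr ⟨toF, invF, fun c => Subtype.ext (funext fun k => ?_), fun p => ?_⟩
  · show (if h : k.val ≤ a.val then c.1 ⟨(⟨k, _⟩ : Fin (a.val + 1)), _⟩ else
      if k.val ≤ m then c.1 ⟨a, _⟩ else U) = c.1 k
    split_ifs with h1 h2
    · rfl
    · refine Submodule.eq_of_le_of_finrank_eq (c.2.1.1 (show a.val ≤ k.val by omega)) ?_
      rw [c.2.1.2, c.2.1.2, hp _ (by omega), hp _ (by omega)]
      simp [h1, h2, hpa]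
    · refine (Submodule.eq_of_le_of_finrank_eq (c.2.2.1 k) ?_).symm
      rw [c.2.1.2, hp _ (Nat.le_of_lt_succ k.2), if_neg h1, if_neg h2, hd]
  · obtain ⟨W, c, hc⟩ := p
    refine Sigma.subtype_ext (Subtype.ext ?_) (funext fun k => ?_)
    · show (if h : a.val ≤ a.val then c ⟨a.val, _⟩ else _) = W.1
      rw [dif_pos le_rfl]
      exact Submodule.eq_of_le_of_finrank_eq (hc.2.1 _) (by rw [hc.1.2]; exact hpa.trans (hmemW W).2.2.symm)
    · show (if h : k.val ≤ a.val then c ⟨k.val, _⟩ else _) = c k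
      rw [dif_pos (Nat.le_of_lt_succ k.2)]

theorem altSum_succ (T : V →ₗ[F] V) {m : ℕ} {U : Submodule F V} (hU : Inv T U) (hd : finrank F U = m + 1) :
    altSum T (m + 1) U = ∑ a : Fin (m + 1), (-1) ^ (m - a.val) *
      ∑ W ∈ (invs T U).filter (fun W : Submodule F V => finrank F ↥W = a.val), altSum T a.val W := by
  classical
  have h1 : altSum T (m + 1) U = ∑ p : (Σ a : Fin (m + 1), {σ : Equiv.Perm (Fin a.val) // Good σ}),
      ((Equiv.Perm.sign (glue p.1 p.2.1) : ℤˣ) : ℤ) *
        (Nat.card (InvFlags T U (muK (glue p.1 p.2.1))) : ℤ) := by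
    rw [altSum, ← Finset.sum_filter]
    refine (Finset.sum_bij (fun p _ => glue p.1 p.2.1) (fun p _ => by simpa using good_glue p.2.2) ?_ ?_
      (fun p _ => rfl)).symm
    · rintro ⟨a, σ, hσ⟩ _ ⟨b, τ, hτ⟩ _ h
      have := glue_inj h
      rw [Sigma.mk.injEq] at this
      obtain ⟨rfl, h'⟩ := this
      obtain rfl := eq_of_heq h'
      rfl
    · intro κ hκ
      obtain ⟨a, σ, hσ, h⟩ := exists_glue (Finset.mem_filter.1 hκ).2
      exact ⟨⟨a, σ, hσ⟩, Finset.mem_univ _, h⟩
  rw [h1, Fintype.sum_sigma]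
  refine Finset.sum_congr rfl fun a _ => ?_
  rw [Finset.mul_sum]
  simp only [altSum, ← Finset.sum_filter, Finset.mul_sum]
  rw [Finset.sum_comm, Finset.sum_subtype (p := Good) _ fun σ => by simp]
  refine Finset.sum_congr rfl fun σ _ => ?_
  rw [card_invFlags_glue T hU hd a σ.1 σ.2, sign_glue, Nat.cast_sum, Finset.mul_sum]
  exact Finset.sum_congr rfl fun W _ => by ring

theorem altSum_zero (T : V →ₗ[F] V) : altSum T 0 (⊥ : Submodule F V) = 1 := by
  classical
  rw [altSum, Fintype.sum_subsingleton _ (1 : Equiv.Perm (Fin 0)), if_pos (show Good (1 : Equiv.Perm (Fin 0)) from fun i => i.elim0)]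
  have : Nat.card (InvFlags T (⊥ : Submodule F V) (muK (1 : Equiv.Perm (Fin 0)))) = 1 := by
    rw [Nat.card_eq_one_iff_unique]
    refine ⟨⟨fun c d => Subtype.ext (funext fun k => ?_)⟩,
      ⟨⟨fun _ => ⊥, ⟨fun _ _ _ => le_rfl, fun k => ?_⟩, fun _ => le_rfl, fun _ => inv_bot T⟩⟩⟩
    · rw [le_bot_iff.1 (c.2.2.1 k), le_bot_iff.1 (d.2.2.1 k)]
    · rw [finrank_bot, part_of_le _ (Nat.zero_le _)]; simp
  rw [this]
  simp

/-- The alternating sum is the Möbius function. -/
theorem altSum_eq [DecidableEq F] {T : V →ₗ[F] V} (hT : Module.End.IsSemisimple T) {U : Submodule F V} (hU : Inv T U) :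
    (-1) ^ finrank F ↥U * altSum T (finrank F ↥U) U = phi F (facs T U hU) := by
  classical
  refine eq_phi hT (fun W => (-1) ^ finrank F ↥W * altSum T (finrank F ↥W) W) ?_ ?_ hU
  · simp only [finrank_bot, pow_zero, one_mul, altSum_zero]
  · intro U hU hU0
    obtain ⟨m, hm⟩ : ∃ m, finrank F ↥U = m + 1 :=
      ⟨finrank F ↥U - 1, by have := Submodule.one_le_finrank_iff.2 hU0; omega⟩
    rw [← Finset.sum_filter_add_sum_filter_not (invs T U) (fun W : Submodule F V => finrank F ↥W = m + 1)]
    have h1 : (invs T U).filter (fun W : Submodule F V => finrank F ↥W = m + 1) = {U} := by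
      ext W
      simp only [Finset.mem_filter, mem_invs, Finset.mem_singleton]
      exact ⟨fun h => Submodule.eq_of_le_of_finrank_eq h.1.1 (h.2.trans hm.symm), by
        rintro rfl; exact ⟨⟨le_rfl, hU⟩, hm⟩⟩
    have hmaps : ∀ W ∈ (invs T U).filter (fun W : Submodule F V => ¬ finrank F ↥W = m + 1),
        finrank F ↥W ∈ Finset.range (m + 1) := fun W hW => by
      simp only [Finset.mem_filter, mem_invs] at hW
      have := Submodule.finrank_mono hW.1.1
      rw [Finset.mem_range]; omega
    rw [h1, Finset.sum_singleton, ← Finset.sum_fiberwise_of_maps_to hmaps, hm, altSum_succ T hU hm,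
      ← Fin.sum_univ_eq_sum_range, Finset.mul_sum, ← Finset.sum_add_distrib]
    refine Finset.sum_eq_zero fun a _ => ?_
    rw [Finset.filter_filter]
    have h2 : ((invs T U).filter fun W : Submodule F V => ¬ finrank F ↥W = m + 1 ∧ finrank F ↥W = a.val) =
        (invs T U).filter (fun W : Submodule F V => finrank F ↥W = a.val) :=
      Finset.filter_congr fun W _ => by omega
    rw [h2, Finset.mul_sum, Finset.mul_sum, ← Finset.sum_add_distrib]
    refine Finset.sum_eq_zero fun W hW => ?_
    rw [(Finset.mem_filter.1 hW).2]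
    have hs : (-1 : ℤ) ^ (m + 1) * (-1) ^ (m - a.val) = -(-1) ^ a.val := by
      rw [← pow_add, show m + 1 + (m - a.val) = 2 * (m - a.val) + a.val + 1 by omega, pow_succ, pow_add, pow_mul]
      simp
    rw [← mul_assoc, hs, neg_mul, neg_add_cancel]

end Cfsg.Agent.Lib.StVal12
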